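import Cfsg.Agent.H116.LyFive.Main
import Cfsg.Agent.H655.LySixtySeven
import Cfsg.Agent.H655.LyThirtySeven
import Cfsg.Agent.H613.Ly5.ThirtyOne
import Cfsg.Agent.H314.LyOrb.Deg
import Cfsg.Agent.H845.CopLy
import Cfsg.Agent.H954.LD.Row
import Cfsg.Agent.S0000
import Cfsg.Agent.S2076
import Cfsg.Agent.H55.OutGen

/-!
# S4910, the row of the Lyons group (helper333)

Degrees `43110144 = 2⁸·3⁷·7·11` and `38734375 = 5⁶·37·67` (the only coprime pairs of degrees of `Ly` are this one and
`(120064, 53765625)`). The method and the tools are those of helper116 (`H116/LyFive`): the columns of the elements of order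
67, 37, 31 and the degree 1534500 give a character of degree `43110144`, exceptional for the prime 31; the degree equation of
the principal 31-block has 15 solutions; three of them contain `38734375`, the class equation of the involutions excludes
the others.
-/

set_option autoImplicit false
set_option linter.unusedSectionVars false

open Cfsg Subgroup
open scoped ComplexConjugate

namespace Cfsg.Agent.H333.LD

open Cfsg.Agent.Characters.Core Cfsg.Agent.H653.Sieve Cfsg.Agent.H653.Sys
open Cfsg.Agent.SmallSimple.InvolColumn Cfsg.Agent.H116.LyFive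

universe u

/-! ### The arithmetic -/

theorem cert' : certOK NN 0 cs ex Fs = true := cert

theorem cert_all' : H653.Sieve.allDiv NN (H653.Sys.okD NN 0 cs ex Fs (fun d => Nat.beq d 43110144)) facs 1 = true := by
  decide +kernel

/-- The candidates not divisible by `2479 = 37 * 67`. -/
def sp' : List ℤ := [-117920000, -103640625, -20812500, -6281250, -5128515, -586116, -417879, -25326, 105525, 120064, 2517480, 3561250,
  8250000, 11188800, 24312960, 24873750, 70804125]

/-- The candidates divisible by `2479`. -/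
def ge' : List ℤ := [-163614000, -140559300, -115660224, -86765000, -82461456, -71395200, -59637303, -38734375, -36813150, -22211840, -19522125, -16063920,
  -11452980, -9916000, -4997664, -3614382, -2231100, -1308912, -694120, -309875, -156177, -79328, -2479, 74370,
  381766, 535464, 1227105, 2379840, 4685310, 5453800, 8835156, 9296250, 12216512, 15059925, 17134848, 20823600,
  33734232, 39267360, 47720750, 66933000, 77307615, 108431460, 149929920, 153388125, 174521600]

/-- The solutions. -/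
def sols' : List (List ℤ) := [[153388125, 39267360, 74370, -117920000, -117920000],
  [108431460, -22211840, -5128515, -6281250, -117920000],
  [77307615, 8835156, -11452980, 120064, -117920000],
  [77307615, 2379840, -4997664, 120064, -117920000],
  [77307615, -1308912, -1308912, 120064, -117920000],
  [74370, -3614382, -38734375, -417879, -417879],
  [-1308912, -2231100, -38734375, -417879, -417879],
  [39267360, 4685310, -86765000, 120064, -417879],
  [39267360, 381766, -82461456, 120064, -417879],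
  [17134848, -309875, -59637303, 120064, -417879],
  [5453800, -11452980, -36813150, 120064, -417879],
  [77307615, -4997664, -115660224, 120064, 120064],
  [39267360, -156177, -82461456, 120064, 120064],
  [15059925, 1227105, -59637303, 120064, 120064],
  [381766, -4997664, -38734375, 120064, 120064]]

theorem ge_dvd' : ∀ x ∈ ge', ((2479 : ℕ) : ℤ) ∣ x := by decide +kernel

theorem go_check' : go1 sols' ge' 2479 5 sp' (-43110145) [] = true := by decide +kernel

/-- **The enumeration.** -/
theorem enum_sound' (m : Multiset ℤ) (hm : Multiset.card m = 5) (hL : ∀ x ∈ m, x ∈ sp' ∨ x ∈ ge')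
    (hT : m.sum = -43110145) : ∃ s ∈ sols', (s : Multiset ℤ) = m := by
  classical
  obtain ⟨s, hs, he⟩ := go1_sound ge_dvd' go_check' (m.filter (· ∈ sp')) (m.filter (¬ · ∈ sp'))
    (by rw [← Multiset.card_add, Multiset.filter_add_not, hm])
    (fun x hx => (Multiset.mem_filter.1 hx).2)
    (fun x hx => by
      obtain ⟨h1, h2⟩ := Multiset.mem_filter.1 hx
      exact (hL x h1).resolve_left h2)
    (by rw [← Multiset.sum_add, Multiset.filter_add_not, hT])
  exact ⟨s, hs, by rw [he, Multiset.filter_add_not]; simp⟩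

theorem search_check' : (sols'.all fun l => l.any (ieq (-38734375)) || srch (mkVars (srt l)) (-1) (31 * CT - KK)) = true := by
  decide +kernel

/-- is the number a candidate? -/
def memZ' (z : ℤ) : Bool := sp'.any (ieq z) || ge'.any (ieq z)

theorem memZ'_spec {z : ℤ} (h : memZ' z = true) : z ∈ sp' ∨ z ∈ ge' := by
  rw [memZ', Bool.or_eq_true, List.any_eq_true, List.any_eq_true] at h
  rcases h with ⟨y, hy, h⟩ | ⟨y, hy, h⟩
  · exact Or.inl (ieq_iff.1 h ▸ hy)
  · exact Or.inr (ieq_iff.1 h ▸ hy)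

/-- the check of the candidates for a degree -/
def chk' (d : ℕ) : Bool :=
  Nat.ble NN (d * d) || !(res67 (d % 67)) || !(res37 (d % 37)) ||
    ((!(Nat.beq (d % 31) 1) || Nat.beq d 1 || memZ' (Int.ofNat d)) &&
      (!(Nat.beq (d % 31) 30) || memZ' (Int.negSucc (d - 1))))

theorem chk_all' : H653.Sieve.allDiv NN chk' facs 1 = true := by decide +kernel

/-! ### The characters -/

variable {G : Type u} [Group G] [Finite G]

/-- (A) There is a character of degree `43110144`. -/
theorem exists_exc' [IsSimpleGroup G] (hG : ¬ IsMulCommutative G) (D : Dat G) :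
    ∃ χ : IrrCharacter G, deg χ = 43110144 := by
  classical
  have := finite_irr (G := G)
  have := Fintype.ofFinite (IrrCharacter G)
  obtain ⟨x67, h67, c67⟩ := D.c67
  obtain ⟨x37, h37, c37⟩ := D.c37
  obtain ⟨x31, h31, c31⟩ := D.c31
  have hN : Nat.card G = NN := D.card
  obtain ⟨W67, hW67⟩ := primeFam_ok hG hN h67 (k := 1) (by rw [c67]) 22 3 wl67 3 true num67 201 3 (by norm_num) (by norm_num)
  obtain ⟨W37, hW37⟩ := primeFam_ok hG hN h37 (k := 1) (by rw [c37]) 18 2 wl37 2 true num37 74 2 (by norm_num) (by norm_num)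
  obtain ⟨W31, hW31⟩ := primeFam_ok hG hN h31 (k := 1) (by rw [c31]) 6 5 wl31 5 true num31 155 5 (by norm_num) (by norm_num)
  have hnp : ¬ (Nat.card G).Prime := by
    rw [D.card]
    exact fun h => absurd (h.eq_one_or_self_of_dvd 2 (by norm_num)) (by norm_num)
  obtain ⟨χ, -, hχ⟩ := exists_of_cert (lab := fun g : G => orderOf g) (fun g h hc => isConj_order hc) orderOf_one NN hN facs
    facs_prime facs_prod (fun χ h => one_of_deg hnp χ h) (Fs := Fs) (.cons hW67 (.cons hW37 (.cons hW31 .nil))) ex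
    (by
      intro e he
      simp only [ex, List.mem_singleton] at he
      subst he
      obtain ⟨χ, hχ⟩ := D.deg
      exact Ex.of_exists ⟨χ, by
        have : deg χ = 1534500 := hχ
        rw [this]
        rfl⟩ (by norm_num)) 0 cs (fun d => Nat.beq d 43110144) cert cert_all'
  refine ⟨χ, ?_⟩
  exact Nat.eq_of_beq_eq_true hχ

/-- The signed degrees of the nonexceptional characters are candidates. -/
theorem candidate' [IsSimpleGroup G] (hG : ¬ IsMulCommutative G) (D : Dat G)
    (χ : IrrCharacter G) (h1 : (χ : G → ℂ) ≠ 1)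
    {ε : ℤ} (hε : ε = 1 ∨ ε = -1) (hd : (31 : ℤ) ∣ (deg χ : ℤ) - ε) : ε * deg χ ∈ sp' ∨ ε * deg χ ∈ ge' := by
  classical
  have := finite_irr (G := G)
  have := Fintype.ofFinite (IrrCharacter G)
  obtain ⟨x67, h67, c67⟩ := D.c67
  obtain ⟨x37, h37, c37⟩ := D.c37
  have hN : Nat.card G = NN := D.card
  obtain ⟨-, W67, -, -, -, hok67⟩ := H653.Sieve.exists_col hG hN h67 (k := 1) (by rw [c67]) 22 3 wl67 3 true num67
  obtain ⟨-, W37, -, -, -, hok37⟩ := H653.Sieve.exists_col hG hN h37 (k := 1) (by rw [c37]) 18 2 wl37 2 true num37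
  have r67 : res67 (deg χ % 67) = true := res67_of (hok67.mem χ)
  have r37 : res37 (deg χ % 37) = true := res37_of (hok37.mem χ)
  have hnp : ¬ (Nat.card G).Prime := by
    rw [D.card]
    exact fun h => absurd (h.eq_one_or_self_of_dvd 2 (by norm_num)) (by norm_num)
  have hne1 : deg χ ≠ 1 := fun h => h1 (one_of_deg hnp χ h)
  have hpos : 0 < deg χ := by
    have := Cfsg.Agent.Blocks.Basic.irr_one_ne_zero χ.2
    rw [degc] at this
    rcases Nat.eq_zero_or_pos (deg χ) with h | h
    · rw [h] at this; simp at this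
    · exact h
  have hdvd : deg χ ∣ facProd facs := by
    rw [facs_prod, ← hN]
    exact Blocks.Knorr.charDegree_dvd χ.2
  have hlt : deg χ * deg χ < NN := by
    have hsq : ∑ χ : IrrCharacter G, deg χ * deg χ = NN := by
      have h3 := SmallSimple.DegreeData.sum_sq (G := G)
      rw [← hN, ← h3]
      exact Finset.sum_congr rfl fun χ _ => by unfold deg; ring
    have hχ₁ : ∃ χ₁ : IrrCharacter G, (χ₁ : G → ℂ) = 1 := ⟨⟨1, isIrr_one⟩, rfl⟩
    obtain ⟨χ₁, hχ₁⟩ := hχ₁
    have hne : χ ≠ χ₁ := fun h => h1 (by rw [h, hχ₁])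
    have hd1 : deg χ₁ = 1 := by
      unfold deg charDegree
      rw [hχ₁]
      simp
    have h4 : ∑ χ' ∈ ({χ, χ₁} : Finset (IrrCharacter G)), deg χ' * deg χ' ≤
        ∑ χ' : IrrCharacter G, deg χ' * deg χ' :=
      Finset.sum_le_sum_of_subset (Finset.subset_univ _)
    rw [Finset.sum_pair hne, hsq, hd1] at h4
    omega
  have hpr : ∀ pa ∈ facs, pa.1.Prime := by
    intro pa hpa
    have := List.all_eq_true.1 facs_prime pa hpa
    simpa using this
  have h3 := allDiv_spec hpr chk_all' (deg χ) hdvd (by rwa [one_mul])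
  rw [one_mul, chk', r67, r37] at h3
  have hb1 : Nat.beq (deg χ) 1 = false := by
    rw [Bool.eq_false_iff]
    exact fun h => hne1 (Nat.eq_of_beq_eq_true h)
  have hble : Nat.ble NN (deg χ * deg χ) = false := by
    rw [Bool.eq_false_iff]
    intro h5
    exact absurd (Nat.le_of_ble_eq_true h5) (by omega)
  rw [hble, hb1] at h3
  simp only [Bool.not_true, Bool.false_or, Bool.or_false, Bool.and_eq_true, Bool.or_eq_true, Bool.not_eq_true'] at h3
  obtain ⟨h3, h4⟩ := h3
  rcases hε with rfl | rfl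
  · rw [one_mul]
    have h5 : deg χ % 31 = 1 := by omega
    rw [h5] at h3
    rcases h3 with h3 | h3
    · exact Bool.noConfusion h3
    · exact memZ'_spec h3
  · have h5 : deg χ % 31 = 30 := by omega
    rw [h5] at h4
    rcases h4 with h4 | h4
    · exact Bool.noConfusion h4
    · have h6 := memZ'_spec h4
      have h7 : Int.negSucc (deg χ - 1) = -1 * (deg χ : ℤ) := by
        rw [Int.negSucc_eq]
        omega
      rw [h7] at h6
      exact h6

/-- **The degrees `38734375` and `43110144`.** -/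
theorem exists_pair [IsSimpleGroup G] (hG : ¬ IsMulCommutative G) (D : Dat G) :
    (∃ χ : IrrCharacter G, deg χ = 38734375) ∧ ∃ χ : IrrCharacter G, deg χ = 43110144 := by
  refine ⟨?_, exists_exc' hG D⟩
  classical
  by_contra hno
  push Not at hno
  have hfin := finite_irr (G := G)
  have := Fintype.ofFinite (IrrCharacter G)
  obtain ⟨x, hx, hc⟩ := D.c31
  obtain ⟨τ, hτ, hτc, hone⟩ := D.inv
  have hN : Nat.card G = NN := D.card
  obtain ⟨⟨g, hg⟩, NE, X, ε, d, B⟩ := exists_block hG hN (by norm_num) (by decide +kernel) (by decide +kernel) hx hc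
    (e := 6) (t := 5) (by norm_num) idx31
  replace hg := hg (by decide)
  -- (A)
  obtain ⟨Θ, hΘd⟩ := exists_exc' hG D
  have hΘX : Θ ∈ X := by
    by_contra hX
    by_cases hNE : Θ ∈ NE
    · have h1 := B.dvdNE Θ hNE
      rw [hΘd] at h1
      rcases B.eps Θ hNE with h2 | h2 <;> rw [h2] at h1 <;> revert h1 <;> norm_num
    · have h1 := B.dvdO Θ hNE hX
      rw [hΘd] at h1
      revert h1
      norm_num
  have hd : d = -1 := by
    rcases B.rel.hd with h | h
    · have h1 := B.dvdX Θ hΘX
      rw [hΘd, h] at h1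
      revert h1
      norm_num
    · exact h
  -- the values at the involution
  have hbex : ∀ χ : IrrCharacter G, ∃ z : ℤ, (χ : G → ℂ) τ = z := by
    intro χ
    obtain ⟨n, z, -, hz, -⟩ := exists_int_of_char (isIrr_isCharacter χ.2) (t := τ) (by rw [← hτ, pow_orderOf_eq_one])
    exact ⟨z, hz⟩
  choose b hb using hbex
  have hK : (centralizer ({τ} : Set G)).index = KK := by
    have h1 := (centralizer ({τ} : Set G)).card_mul_index
    rw [hτc, D.card] at h1
    have h2 : 39916800 * KK = 51765179004000000 := by decide +kernel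
    omega
  have hcex : ∀ χ : IrrCharacter G, ∃ c : ℤ, (deg χ : ℤ) * c = b χ * KK := by
    intro χ
    obtain ⟨c, hc⟩ := dvd_index_mul χ.2 (hb χ)
    rw [hK] at hc
    exact ⟨c, by rw [mul_comm (b χ)]; exact hc.symm⟩
  choose c hc' using hcex
  have hle : ∀ χ : IrrCharacter G, b χ * b χ ≤ CT := by
    intro χ
    have h1 := sum_sq_le ({χ} : Finset (IrrCharacter G)) τ b fun χ _ => hb χ
    rw [Finset.sum_singleton, hτc, pow_two] at h1
    exact h1
  have hpos : ∀ χ : IrrCharacter G, deg χ ≠ 0 := by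
    intro χ h
    have := Cfsg.Agent.Blocks.Basic.irr_one_ne_zero χ.2
    rw [degc, h] at this
    simp at this
  have hdz : ∀ χ : IrrCharacter G, 256 ∣ deg χ → b χ = 0 := by
    intro χ h
    have h1 := H692.RealOver.defect_zero_vanish χ.2 2 Nat.prime_two (by
      have h2 : (Nat.card G).factorization 2 = 8 := by
        rw [D.card, show (51765179004000000 : ℕ) = 2 ^ 8 * 202207730484375 by norm_num,
          Nat.factorization_mul (by norm_num) (by norm_num), Nat.Prime.factorization_pow Nat.prime_two]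
        rw [Finsupp.add_apply, Finsupp.single_eq_same, Nat.factorization_eq_zero_of_not_dvd (by norm_num)]
      rw [h2]
      exact h) (x := τ) (by rw [hτ])
    rw [hb χ] at h1
    exact_mod_cast h1
  have hΘ0 : (Θ : G → ℂ) τ = 0 := by
    rw [hb Θ, hdz Θ (by rw [hΘd]; norm_num)]
    simp
  obtain ⟨hL, hQ⟩ := B.class_eq (by norm_num) (by norm_num) hx hc hg hτ hone hΘX hΘ0 hK hτc hb hc'
  -- without the principal character
  obtain ⟨χ₁, h1NE, hχ₁, hε₁⟩ := B.one
  have hS5 : (NE.erase χ₁).card = 5 := by rw [Finset.card_erase_of_mem h1NE, B.cardNE]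
  have hd1 : deg χ₁ = 1 := by
    unfold deg charDegree
    rw [hχ₁]
    simp
  have hb1 : b χ₁ = 1 := by
    have := hb χ₁
    rw [hχ₁, Pi.one_apply] at this
    exact_mod_cast this.symm
  have hc1 : c χ₁ = KK := by
    have := hc' χ₁
    rw [hd1, hb1] at this
    simpa using this
  rw [← Finset.add_sum_erase NE _ h1NE, hε₁, hb1] at hL hQ
  rw [hc1] at hQ
  -- the degrees
  have hdeg : ∑ χ ∈ NE.erase χ₁, ε χ * (deg χ : ℤ) = -43110145 := by
    have h1 := B.rel.rel Θ hΘX 1 B.rel.one
    have h2 : ((∑ χ ∈ NE, ε χ * (deg χ : ℤ) : ℤ) : ℂ) = ((-1 * 43110144 : ℤ) : ℂ) := by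
      push_cast
      rw [degc, hΘd, hd] at h1
      push_cast at h1
      rw [show (-43110144 : ℂ) = -1 * 43110144 by norm_num, ← h1]
      exact Finset.sum_congr rfl fun χ _ => by rw [degc]
    have h3 : ∑ χ ∈ NE, ε χ * (deg χ : ℤ) = -1 * 43110144 := by exact_mod_cast h2
    rw [← Finset.add_sum_erase NE _ h1NE, hε₁, hd1] at h3
    push_cast at h3
    linarith
  set Df : IrrCharacter G → ℤ := fun χ => ε χ * (deg χ : ℤ) with hDf
  obtain ⟨s, hs, hsm⟩ := enum_sound' ((NE.erase χ₁).val.map Df) (by rw [Multiset.card_map]; exact hS5)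
    (by
      intro z hz
      obtain ⟨χ, hχ, rfl⟩ := Multiset.mem_map.1 hz
      have hχ' : χ ∈ NE.erase χ₁ := hχ
      obtain ⟨hne, hχN⟩ := Finset.mem_erase.1 hχ'
      exact candidate' hG D χ (fun h => hne (Subtype.ext (h.trans hχ₁.symm))) (B.eps χ hχN) (B.dvdNE χ hχN))
    hdeg
  have hsg : ∀ χ ∈ NE.erase χ₁, sg (Df χ) = ε χ := by
    intro χ hχ
    have hp : 0 < deg χ := Nat.pos_of_ne_zero (hpos χ)
    obtain ⟨m, hm⟩ : ∃ m, deg χ = m + 1 := ⟨deg χ - 1, by omega⟩
    rcases B.eps χ (Finset.mem_of_mem_erase hχ) with h | h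
    · show sg (ε χ * (deg χ : ℤ)) = ε χ
      rw [h, one_mul]
      rfl
    · show sg (ε χ * (deg χ : ℤ)) = ε χ
      rw [h, hm]
      rfl
  have hnat : ∀ χ ∈ NE.erase χ₁, (Df χ).natAbs = deg χ := by
    intro χ hχ
    show (ε χ * (deg χ : ℤ)).natAbs = deg χ
    rw [Int.natAbs_mul, Int.natAbs_natCast]
    rcases B.eps χ (Finset.mem_of_mem_erase hχ) with h | h <;> rw [h] <;> simp
  have hH : Hyp Df b c (NE.erase χ₁) := by
    refine ⟨fun χ hχ h0 => ?_, fun χ hχ => ?_, fun χ _ => hle χ, fun χ hχ h => ?_⟩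
    · have h1 := hnat χ hχ
      rw [h0] at h1
      exact hpos χ h1.symm
    · rw [hnat χ hχ]; exact hc' χ
    · rw [hnat χ hχ] at h; exact hdz χ h
  have hchk := List.all_eq_true.1 search_check' s hs
  rw [Bool.or_eq_true] at hchk
  rcases hchk with hchk | hchk
  · obtain ⟨z, hz, hz1⟩ := List.any_eq_true.1 hchk
    rw [ieq_iff] at hz1
    have hz2 : z ∈ (NE.erase χ₁).val.map Df := by rw [← hsm]; exact hz
    obtain ⟨χ, hχ, hχz⟩ := Multiset.mem_map.1 hz2
    apply hno χ
    rw [← hnat χ hχ, hχz, ← hz1]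
    rfl
  refine srch_sound (l := srt s) (S := NE.erase χ₁) ?_ hH hchk ?_ ?_
  · rw [← hsm]
    exact (Multiset.coe_eq_coe.2 (List.perm_insertionSort _ _)).symm
  · rw [Finset.sum_congr rfl fun χ hχ => by rw [hsg χ hχ]]
    linarith
  · rw [Finset.sum_congr rfl fun χ hχ => by rw [hsg χ hχ]]
    have h1 : ((31 : ℕ) : ℤ) * ((39916800 : ℕ) : ℤ) = 31 * CT := by norm_num [CT]
    rw [h1] at hQ
    linarith

/-- The local data of the Lyons group. -/
theorem dat : Dat Spor.Ly := by
  have hK : H995.CopEngine.AllKnown.{0} := fun _ _ _ _ => S0000.result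
  have hfin : Finite Spor.Ly := Cfsg.Agent.Ly.Setup.finite_ly
  have hI : Spor.IsoLy Spor.Ly := ⟨MulEquiv.refl _⟩
  obtain ⟨-, hs, hcard, ⟨L⟩⟩ := TypeM.FactsLy.facts hI
  have hex : ∀ p : ℕ, p.Prime → p ∣ 51765179004000000 → ∃ x : Spor.Ly, orderOf x = p := by
    intro p hp hd
    have : Fact p.Prime := ⟨hp⟩
    exact exists_prime_orderOf_dvd_card' p (by rw [hcard]; exact hd)
  refine ⟨hcard, ?_, ?_, ?_, ?_, ?_⟩
  · obtain ⟨x, hx⟩ := hex 67 (by norm_num) (by norm_num)
    exact ⟨x, hx, H655.LySixtySeven.card_centralizer hK hI hx⟩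
  · obtain ⟨x, hx⟩ := hex 37 (by norm_num) (by norm_num)
    exact ⟨x, hx, H655.LyThirtySeven.card_centralizer37 hK hI hx⟩
  · obtain ⟨x, hx⟩ := hex 31 (by norm_num) (by norm_num)
    exact ⟨x, hx, H613.Ly5.ThirtyOne.card_centralizer31 hI hx⟩
  · obtain ⟨χ, -, hχ⟩ := H314.LyOrb.exists_deg_ly
    exact ⟨χ 2, (hχ 2).trans rfl⟩
  · have hti : orderOf L.t = 2 := by
      have h2 : Fact (Nat.Prime 2) := ⟨Nat.prime_two⟩
      refine orderOf_eq_prime (by rw [pow_two]; exact L.t_mul_t) ?_
      intro h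
      have h1 := H845.CopLy.card_cent L
      have h2 : centralizer ({L.t} : Set Spor.Ly) = ⊤ := by
        rw [h, eq_top_iff]
        intro g _
        rw [mem_centralizer_singleton_iff]
        simp
      rw [h2, Nat.card_congr Subgroup.topEquiv.toEquiv, hcard] at h1
      revert h1
      norm_num
    refine ⟨L.t, hti, H845.CopLy.card_cent L, fun s hs => ?_⟩
    have hss : s * s = 1 := by rw [← pow_two, ← hs, pow_orderOf_eq_one]
    have hs1 : s ≠ 1 := by
      rintro rfl
      rw [orderOf_one] at hs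
      omega
    obtain ⟨g, hg⟩ := L.one s hss hs1
    exact isConj_iff.2 ⟨g, hg⟩

/-- **The row of the Lyons group.** -/
theorem row_Ly {S : Type u} [Group S] [Finite S] [IsSimpleGroup S] (hna : ¬ IsMulCommutative S) (h : Spor.IsoLy S) :
    Cfsg.Agent.H954.LD.CopRow S := by
  have hfin : Finite Spor.Ly := Cfsg.Agent.Ly.Setup.finite_ly
  have hsim : IsSimpleGroup Spor.Ly := Cfsg.Agent.Ly.Setup.isSimple_ly
  obtain ⟨e⟩ := h
  have hna' : ¬ IsMulCommutative Spor.Ly := by
    intro hc
    apply hna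
    refine ⟨⟨fun a b => e.injective ?_⟩⟩
    rw [map_mul, map_mul]
    exact hc.is_comm.comm _ _
  obtain ⟨⟨χ, hχ⟩, ψ, hψ⟩ := exists_pair hna' dat
  have ho : Nat.card (Out S) = 1 := by
    rw [H55.OutGen.card_out_congr e]
    exact S2076.result
  have hd : ∀ θ : IrrCharacter Spor.Ly, charDegree ((θ : Spor.Ly → ℂ) ∘ e.toMonoidHom) = deg θ := by
    intro θ
    unfold charDegree deg
    rw [Function.comp_apply, map_one]
    rfl
  refine H954.LD.copRow_one hna ho (α := ⟨(χ : Spor.Ly → ℂ) ∘ e.toMonoidHom, isIrr_comp e.toMonoidHom e.surjective χ.2⟩)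
    (β := ⟨(ψ : Spor.Ly → ℂ) ∘ e.toMonoidHom, isIrr_comp e.toMonoidHom e.surjective ψ.2⟩) ?_ ?_ ?_
  · show charDegree ((χ : Spor.Ly → ℂ) ∘ e.toMonoidHom) ≠ 1
    rw [hd, hχ]
    norm_num
  · show charDegree ((ψ : Spor.Ly → ℂ) ∘ e.toMonoidHom) ≠ 1
    rw [hd, hψ]
    norm_num
  · show Nat.Coprime (charDegree ((χ : Spor.Ly → ℂ) ∘ e.toMonoidHom)) (charDegree ((ψ : Spor.Ly → ℂ) ∘ e.toMonoidHom))
    rw [hd, hd, hχ, hψ]
    norm_num

end Cfsg.Agent.H333.LD
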